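import Mathlib

/-! Descent of common fixed vectors along a field extension. -/

namespace Cfsg.Agent.Lib.CamPair.LiftBase

open Matrix

theorem exists_fixed_of_ext {F K : Type*} [Field F] [Field K] [Algebra F K]
    {ι n : Type*} [Fintype n] (M : ι → Matrix n n F) (v : n → K) (hv : v ≠ 0)
    (h : ∀ i, (M i).map (algebraMap F K) *ᵥ v = v) :
    ∃ w : n → F, w ≠ 0 ∧ ∀ i, M i *ᵥ w = w := by
  obtain ⟨j, hj⟩ : ∃ j, v j ≠ 0 := by
    by_contra hc
    push_neg at hc
    exact hv (funext hc)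
  obtain ⟨ℓ, hℓ⟩ : ∃ ℓ : Module.Dual F K, ℓ (v j) ≠ 0 := by
    by_contra hc
    push_neg at hc
    exact hj ((Module.forall_dual_apply_eq_zero_iff F (v j)).1 hc)
  refine ⟨fun k => ℓ (v k), fun h0 => hℓ (congrFun h0 j), fun i => ?_⟩
  funext k
  have hk := congrFun (h i) k
  simp only [Matrix.mulVec, dotProduct, Matrix.map_apply] at hk ⊢
  conv_rhs => rw [← hk]
  rw [map_sum]
  refine Finset.sum_congr rfl fun a _ => ?_
  rw [← Algebra.smul_def, map_smul, smul_eq_mul]

end Cfsg.Agent.Lib.CamPair.LiftBase
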