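import Mathlib

/-!
# `r`-subgroups of `GL_n(K)`, `r` odd, `r ∣ |K| - 1`, are monomial up to conjugacy.
-/

set_option autoImplicit false

namespace Cfsg.Agent.Lib.CamPair.LiftMono

open Matrix

variable {K : Type*} [Field K] {n : ℕ}

/-- A monomial matrix: exactly one nonzero entry in each row, at the column `σ i`. -/
def IsMono (M : Matrix (Fin n) (Fin n) K) : Prop :=
  ∃ σ : Equiv.Perm (Fin n), ∀ i j, M i j ≠ 0 ↔ j = σ i

theorem IsMono.one : IsMono (1 : Matrix (Fin n) (Fin n) K) := by
  refine ⟨1, fun i j => ?_⟩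
  by_cases h : i = j
  · subst h; simp
  · have h' : j ≠ i := fun e => h e.symm
    simp [Matrix.one_apply_ne h, h']

theorem IsMono.mul {M N : Matrix (Fin n) (Fin n) K} (hM : IsMono M) (hN : IsMono N) :
    IsMono (M * N) := by
  obtain ⟨σ, hσ⟩ := hM
  obtain ⟨τ, hτ⟩ := hN
  have hM0 : ∀ i j, j ≠ σ i → M i j = 0 := fun i j h => by
    by_contra h'
    exact h ((hσ i j).mp h')
  have hN0 : ∀ i j, j ≠ τ i → N i j = 0 := fun i j h => by
    by_contra h'
    exact h ((hτ i j).mp h')
  have hval : ∀ i j, (M * N) i j = M i (σ i) * N (σ i) j := by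
    intro i j
    rw [Matrix.mul_apply]
    refine Finset.sum_eq_single (σ i) ?_ ?_
    · intro k _ hk
      rw [hM0 i k hk, zero_mul]
    · intro h
      exact absurd (Finset.mem_univ _) h
  refine ⟨σ.trans τ, fun i j => ?_⟩
  rw [hval, Equiv.trans_apply]
  have h1 : M i (σ i) ≠ 0 := (hσ i (σ i)).mpr rfl
  constructor
  · intro h
    exact (hτ (σ i) j).mp (right_ne_zero_of_mul h)
  · intro h
    exact mul_ne_zero h1 ((hτ (σ i) j).mpr h)

/-- The group of invertible monomial matrices. -/
def monoSub (K : Type*) [Field K] [Finite K] (n : ℕ) : Subgroup (GL (Fin n) K) where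
  carrier := {g | IsMono ((g : GL (Fin n) K) : Matrix (Fin n) (Fin n) K)}
  mul_mem' := by
    intro a b ha hb
    show IsMono _
    rw [Units.val_mul]
    exact IsMono.mul ha hb
  one_mem' := by
    show IsMono _
    rw [Units.val_one]
    exact IsMono.one
  inv_mem' := by
    intro a ha
    have hpow : ∀ m : ℕ, IsMono ((a ^ m : GL (Fin n) K) : Matrix (Fin n) (Fin n) K) := by
      intro m
      induction m with
      | zero => rw [pow_zero, Units.val_one]; exact IsMono.one
      | succ m ih => rw [pow_succ, Units.val_mul]; exact IsMono.mul ih ha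
    have hfin : IsOfFinOrder a := isOfFinOrder_of_finite a
    have : a⁻¹ = a ^ (orderOf a - 1) := by
      rw [eq_comm, ← mul_left_inj a, inv_mul_cancel, ← pow_succ,
        Nat.sub_add_cancel hfin.orderOf_pos, pow_orderOf_eq_one]
    show IsMono _
    rw [this]
    exact hpow _

/-- The monomial element with given diagonal and permutation. -/
noncomputable def monoOf (d : Fin n → Kˣ) (σ : Equiv.Perm (Fin n)) : GL (Fin n) K := by
  classical
  exact
  { val := Matrix.of fun i j => if j = σ i then (d i : K) else 0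
    inv := Matrix.of fun i j => if j = σ⁻¹ i then ((d (σ⁻¹ i))⁻¹ : Kˣ) else (0 : K)
    val_inv := by
      ext i k
      rw [Matrix.mul_apply, Finset.sum_eq_single (σ i)]
      · by_cases h : i = k
        · subst h; simp
        · have h' : k ≠ i := fun e => h e.symm
          simp [Matrix.one_apply_ne h, h']
      · intro b _ hb
        simp [hb]
      · intro h
        exact absurd (Finset.mem_univ _) h
    inv_val := by
      ext i k
      rw [Matrix.mul_apply, Finset.sum_eq_single (σ⁻¹ i)]
      · by_cases h : i = k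
        · subst h; simp
        · have h' : k ≠ i := fun e => h e.symm
          simp [Matrix.one_apply_ne h, h']
      · intro b _ hb
        simp only [Matrix.of_apply]
        rw [if_neg hb, zero_mul]
      · intro h
        exact absurd (Finset.mem_univ _) h }

theorem monoOf_apply (d : Fin n → Kˣ) (σ : Equiv.Perm (Fin n)) (i j : Fin n) :
    ((monoOf d σ : GL (Fin n) K) : Matrix (Fin n) (Fin n) K) i j =
      if j = σ i then (d i : K) else 0 := by
  classical
  simp only [monoOf]
  rfl

theorem monoOf_mem [Finite K] (d : Fin n → Kˣ) (σ : Equiv.Perm (Fin n)) : monoOf d σ ∈ monoSub K n := by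
  refine ⟨σ, fun i j => ?_⟩
  rw [monoOf_apply]
  by_cases h : j = σ i
  · simp [h]
  · simp [h]

variable [Fintype K]

theorem card_monoSub :
    Nat.card (monoSub K n) = (Fintype.card K - 1) ^ n * n.factorial := by
  classical
  let F : (Fin n → Kˣ) × Equiv.Perm (Fin n) → monoSub K n :=
    fun x => ⟨monoOf x.1 x.2, monoOf_mem x.1 x.2⟩
  have hF : Function.Bijective F := by
    constructor
    · rintro ⟨d, σ⟩ ⟨d', σ'⟩ h
      have h' : monoOf d σ = monoOf d' σ' := congrArg Subtype.val h
      have hent : ∀ i j, (if j = σ i then (d i : K) else 0) = if j = σ' i then (d' i : K) else 0 := by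
        intro i j
        rw [← monoOf_apply, ← monoOf_apply, h']
      have hσ : σ = σ' := by
        ext i
        have := hent i (σ i)
        simp only [if_true] at this
        by_contra hne
        have hne' : σ i ≠ σ' i := fun e => hne (congrArg _ e)
        rw [if_neg hne'] at this
        exact (d i).ne_zero this
      subst hσ
      have hd : d = d' := by
        funext i
        have := hent i (σ i)
        simp only [if_true] at this
        exact Units.ext this
      rw [hd]
    · rintro ⟨g, σ, hσ⟩
      have hne : ∀ i, (g : Matrix (Fin n) (Fin n) K) i (σ i) ≠ 0 := fun i => (hσ i (σ i)).mpr rfl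
      refine ⟨(fun i => Units.mk0 _ (hne i), σ), ?_⟩
      apply Subtype.ext
      apply Units.ext
      ext i j
      show ((monoOf _ σ : GL (Fin n) K) : Matrix (Fin n) (Fin n) K) i j = _
      rw [monoOf_apply]
      by_cases h : j = σ i
      · subst h; simp
      · rw [if_neg h]
        by_contra h'
        exact h ((hσ i j).mp (Ne.symm h'))
  rw [← Nat.card_congr (Equiv.ofBijective F hF), Nat.card_prod, Nat.card_pi]
  simp only [Nat.card_eq_fintype_card, Fintype.card_perm, Fintype.card_units,
    Finset.prod_const, Finset.card_univ, Fintype.card_fin]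

/-- `v_r(|GL_n(q)|) = n v_r(q-1) + v_r(n!)`. -/
theorem padicVal_card_GL (r : ℕ) [Fact r.Prime] (hr2 : r ≠ 2) (hrq : r ∣ Fintype.card K - 1) :
    padicValNat r (Nat.card (GL (Fin n) K)) =
      padicValNat r ((Fintype.card K - 1) ^ n * n.factorial) := by
  classical
  set q := Fintype.card K with hq
  have hq1 : 1 < q := Fintype.one_lt_card
  have hrprime : r.Prime := Fact.out
  have hodd : Odd r := hrprime.odd_of_ne_two hr2
  have hq0 : q - 1 ≠ 0 := Nat.sub_ne_zero_of_lt hq1
  have hrq' : ¬ r ∣ q := by
    intro h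
    have h1 : r ∣ q - (q - 1) := Nat.dvd_sub h hrq
    have h2 : q - (q - 1) = 1 := by omega
    rw [h2] at h1
    exact hrprime.one_lt.ne' (Nat.dvd_one.mp h1)
  have hterm : ∀ i : Fin n, padicValNat r (q ^ n - q ^ (i : ℕ)) =
      padicValNat r (q - 1) + padicValNat r (n - i) := by
    intro i
    have hi : (i : ℕ) < n := i.2
    have hfac : q ^ n - q ^ (i : ℕ) = q ^ (i : ℕ) * (q ^ (n - i) - 1) := by
      rw [Nat.mul_sub, mul_one, ← pow_add]
      congr 2
      omega
    have hpos : q ^ (n - (i : ℕ)) - 1 ≠ 0 := by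
      apply Nat.sub_ne_zero_of_lt
      exact Nat.one_lt_pow (by omega) hq1
    have h1 : padicValNat r (q ^ (i : ℕ)) = 0 := by
      apply padicValNat.eq_zero_of_not_dvd
      intro h
      exact hrq' (hrprime.dvd_of_dvd_pow h)
    rw [hfac, padicValNat.mul (pow_ne_zero _ (by omega)) hpos, h1, zero_add]
    have := padicValNat.pow_sub_pow (p := r) (x := q) (y := 1) hodd hq1 hrq hrq' (n := n - i)
      (by omega)
    simpa using this
  have hne : ∀ i : Fin n, q ^ n - q ^ (i : ℕ) ≠ 0 := by
    intro i
    apply Nat.sub_ne_zero_of_lt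
    exact Nat.pow_lt_pow_right hq1 i.2
  have hprod : ∀ (s : Finset (Fin n)), padicValNat r (∏ i ∈ s, (q ^ n - q ^ (i : ℕ))) =
      ∑ i ∈ s, (padicValNat r (q - 1) + padicValNat r (n - i)) := by
    intro s
    induction s using Finset.induction_on with
    | empty => simp
    | insert a s ha ih =>
      rw [Finset.prod_insert ha, Finset.sum_insert ha,
        padicValNat.mul (hne a) (Finset.prod_ne_zero_iff.mpr fun i _ => hne i), hterm a, ih]
  have hfact : ∀ m : ℕ, padicValNat r m.factorial = ∑ k ∈ Finset.range m, padicValNat r (k + 1) := by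
    intro m
    induction m with
    | zero => simp
    | succ m ih =>
      rw [Nat.factorial_succ, padicValNat.mul (by omega) (Nat.factorial_ne_zero m), ih,
        Finset.sum_range_succ, add_comm]
  have hsum : ∑ i : Fin n, padicValNat r (n - (i : ℕ)) = padicValNat r n.factorial := by
    rw [hfact, Fin.sum_univ_eq_sum_range (fun i => padicValNat r (n - i)) n,
      ← Finset.sum_range_reflect]
    refine Finset.sum_congr rfl fun k hk => ?_
    have : k < n := Finset.mem_range.mp hk
    congr 1
    omega
  have hpow : ∀ m : ℕ, padicValNat r ((q - 1) ^ m) = m * padicValNat r (q - 1) := by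
    intro m
    exact padicValNat.pow (q - 1) m
  rw [Matrix.card_GL_field, hprod, Finset.sum_add_distrib, hsum,
    padicValNat.mul (pow_ne_zero _ hq0) (Nat.factorial_ne_zero n), hpow]
  simp

/-- An `r`-subgroup of `GL_n(K)`, `r` odd, `r ∣ |K| - 1`, is conjugate to a group of monomial
matrices. -/
theorem exists_conj_mono (r : ℕ) [Fact r.Prime] (hr2 : r ≠ 2) (hrq : r ∣ Fintype.card K - 1)
    (R : Subgroup (GL (Fin n) K)) (hR : IsPGroup r R) :
    ∃ g : GL (Fin n) K, ∀ x ∈ R, IsMono ((g * x * g⁻¹ : GL (Fin n) K) : Matrix (Fin n) (Fin n) K) := by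
  classical
  have hq1 : 1 < Fintype.card K := Fintype.one_lt_card
  have hne : (Fintype.card K - 1) ^ n * n.factorial ≠ 0 :=
    mul_ne_zero (pow_ne_zero _ (Nat.sub_ne_zero_of_lt hq1)) (Nat.factorial_ne_zero n)
  obtain ⟨S⟩ : Nonempty (Sylow r (monoSub K n)) := Sylow.nonempty
  let S' : Subgroup (GL (Fin n) K) := (S : Subgroup (monoSub K n)).map (monoSub K n).subtype
  have hcard : Nat.card S' = r ^ (Nat.card (GL (Fin n) K)).factorization r := by
    have h1 : Nat.card S' = Nat.card (S : Subgroup (monoSub K n)) :=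
      Nat.card_congr ((S : Subgroup (monoSub K n)).equivMapOfInjective _
        (Subgroup.subtype_injective _)).symm.toEquiv
    rw [h1, Sylow.card_eq_multiplicity, card_monoSub, Nat.factorization_def _ Fact.out,
      Nat.factorization_def _ Fact.out, padicVal_card_GL r hr2 hrq]
  let Q₀ : Sylow r (GL (Fin n) K) := Sylow.ofCard S' hcard
  obtain ⟨Q, hQ⟩ := hR.exists_le_sylow
  obtain ⟨g, hg⟩ := MulAction.exists_smul_eq (GL (Fin n) K) Q Q₀
  refine ⟨g, fun x hx => ?_⟩
  have h1 : g * x * g⁻¹ ∈ ((g • Q : Sylow r (GL (Fin n) K)) : Subgroup (GL (Fin n) K)) := by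
    rw [Sylow.coe_subgroup_smul]
    exact Subgroup.mem_map_of_mem (MulAut.conj g).toMonoidHom (hQ hx)
  rw [hg] at h1
  have h2 : g * x * g⁻¹ ∈ S' := h1
  obtain ⟨y, _, hy⟩ := h2
  rw [← hy]
  exact y.2

end Cfsg.Agent.Lib.CamPair.LiftMono
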